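import Cfsg.Agent.Lib.SporRecognition.Cert.Suz22880.Perm
import Cfsg.Agent.Lib.SporRecognition.Cert.Suz22880.Steps1
import Cfsg.Agent.Lib.SporRecognition.Cert.Suz22880.Steps2
import Cfsg.Agent.Lib.SporRecognition.Cert.Suz22880.Steps3
import Cfsg.Agent.Lib.SporRecognition.Cert.Suz22880.Steps4
import Cfsg.Agent.Lib.SporRecognition.Cert.Suz22880.Steps5
import Cfsg.Agent.Lib.SporRecognition.Cert.Suz22880.Steps6
import Cfsg.Agent.Lib.SporRecognition.Cert.Suz22880.Steps7
import Cfsg.Agent.Lib.SporRecognition.Cert.Suz22880.Steps8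
import Cfsg.Agent.Lib.SporRecognition.Cert.Suz22880.Steps9
import Cfsg.Agent.Lib.SporRecognition.Cert.Suz22880.Steps10
import Cfsg.Agent.Lib.SporRecognition.Cert.Suz22880.Steps11
import Cfsg.Agent.Lib.SporRecognition.Cert.Suz22880.Steps12
import Cfsg.Agent.Lib.SporRecognition.Cert.Suz22880.Steps13
import Cfsg.Agent.Lib.SporRecognition.Cert.Suz22880.Steps14

/-! Generated coset-enumeration certificate: Suz over <a, b, c, d, f, g>, 22880 cosets. -/

set_option autoImplicit false
set_option maxRecDepth 20000
set_option linter.all false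
set_option Elab.async false

namespace CfsgLib.SporRecognition.Cert.Suz22880

open CfsgLib.SporRecognition.CosetCert

theorem defs_ok_c0 : allPow 60902 (defStep inv fact) 12 0 = true := by decide +kernel
theorem defs_ok_c1 : allPow 60902 (defStep inv fact) 12 4096 = true := by decide +kernel
theorem defs_ok_c2 : allPow 60902 (defStep inv fact) 12 8192 = true := by decide +kernel
theorem defs_ok_c3 : allPow 60902 (defStep inv fact) 12 12288 = true := by decide +kernel
theorem defs_ok_c4 : allPow 60902 (defStep inv fact) 12 16384 = true := by decide +kernel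
theorem defs_ok_c5 : allPow 60902 (defStep inv fact) 12 20480 = true := by decide +kernel
theorem defs_ok_c6 : allPow 60902 (defStep inv fact) 12 24576 = true := by decide +kernel
theorem defs_ok_c7 : allPow 60902 (defStep inv fact) 12 28672 = true := by decide +kernel
theorem defs_ok_c8 : allPow 60902 (defStep inv fact) 12 32768 = true := by decide +kernel
theorem defs_ok_c9 : allPow 60902 (defStep inv fact) 12 36864 = true := by decide +kernel
theorem defs_ok_c10 : allPow 60902 (defStep inv fact) 12 40960 = true := by decide +kernel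
theorem defs_ok_c11 : allPow 60902 (defStep inv fact) 12 45056 = true := by decide +kernel
theorem defs_ok_c12 : allPow 60902 (defStep inv fact) 12 49152 = true := by decide +kernel
theorem defs_ok_c13 : allPow 60902 (defStep inv fact) 12 53248 = true := by decide +kernel
theorem defs_ok_c14 : allPow 60902 (defStep inv fact) 12 57344 = true := by decide +kernel
theorem defs_ok : allBelow 16 60902 (defStep inv fact) = true :=
  allBelow_of_upto (hi := 61440)
    (Upto.trans (mid := 28672) (Upto.trans (mid := 12288) (Upto.trans (mid := 4096) ((Upto.of_pow defs_ok_c0 (Nat.le_refl _)) : Upto _ _ 0 (0 + 2 ^ 12))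
    (Upto.trans (mid := 8192) ((Upto.of_pow defs_ok_c1 (Nat.le_refl _)) : Upto _ _ 4096 (4096 + 2 ^ 12))
    ((Upto.of_pow defs_ok_c2 (Nat.le_refl _)) : Upto _ _ 8192 (8192 + 2 ^ 12))))
    (Upto.trans (mid := 20480) (Upto.trans (mid := 16384) ((Upto.of_pow defs_ok_c3 (Nat.le_refl _)) : Upto _ _ 12288 (12288 + 2 ^ 12))
    ((Upto.of_pow defs_ok_c4 (Nat.le_refl _)) : Upto _ _ 16384 (16384 + 2 ^ 12)))
    (Upto.trans (mid := 24576) ((Upto.of_pow defs_ok_c5 (Nat.le_refl _)) : Upto _ _ 20480 (20480 + 2 ^ 12))
    ((Upto.of_pow defs_ok_c6 (Nat.le_refl _)) : Upto _ _ 24576 (24576 + 2 ^ 12)))))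
    (Upto.trans (mid := 45056) (Upto.trans (mid := 36864) (Upto.trans (mid := 32768) ((Upto.of_pow defs_ok_c7 (Nat.le_refl _)) : Upto _ _ 28672 (28672 + 2 ^ 12))
    ((Upto.of_pow defs_ok_c8 (Nat.le_refl _)) : Upto _ _ 32768 (32768 + 2 ^ 12)))
    (Upto.trans (mid := 40960) ((Upto.of_pow defs_ok_c9 (Nat.le_refl _)) : Upto _ _ 36864 (36864 + 2 ^ 12))
    ((Upto.of_pow defs_ok_c10 (Nat.le_refl _)) : Upto _ _ 40960 (40960 + 2 ^ 12))))
    (Upto.trans (mid := 53248) (Upto.trans (mid := 49152) ((Upto.of_pow defs_ok_c11 (Nat.le_refl _)) : Upto _ _ 45056 (45056 + 2 ^ 12))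
    ((Upto.of_pow defs_ok_c12 (Nat.le_refl _)) : Upto _ _ 49152 (49152 + 2 ^ 12)))
    (Upto.trans (mid := 57344) ((Upto.of_pow defs_ok_c13 (Nat.le_refl _)) : Upto _ _ 53248 (53248 + 2 ^ 12))
    ((Upto.of_pow defs_ok_c14 (Nat.le_refl _)) : Upto _ _ 57344 (57344 + 2 ^ 12))))))
    (by decide) (by decide)

theorem final1_c0 : allPow 22880 (finalStep fact node item1 T1 172966 1 22880) 10 0 = true := by decide +kernel
theorem final1_c1 : allPow 22880 (finalStep fact node item1 T1 172966 1 22880) 10 1024 = true := by decide +kernel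
theorem final1_c2 : allPow 22880 (finalStep fact node item1 T1 172966 1 22880) 10 2048 = true := by decide +kernel
theorem final1_c3 : allPow 22880 (finalStep fact node item1 T1 172966 1 22880) 10 3072 = true := by decide +kernel
theorem final1_c4 : allPow 22880 (finalStep fact node item1 T1 172966 1 22880) 10 4096 = true := by decide +kernel
theorem final1_c5 : allPow 22880 (finalStep fact node item1 T1 172966 1 22880) 10 5120 = true := by decide +kernel
theorem final1_c6 : allPow 22880 (finalStep fact node item1 T1 172966 1 22880) 10 6144 = true := by decide +kernel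
theorem final1_c7 : allPow 22880 (finalStep fact node item1 T1 172966 1 22880) 10 7168 = true := by decide +kernel
theorem final1_c8 : allPow 22880 (finalStep fact node item1 T1 172966 1 22880) 10 8192 = true := by decide +kernel
theorem final1_c9 : allPow 22880 (finalStep fact node item1 T1 172966 1 22880) 10 9216 = true := by decide +kernel
theorem final1_c10 : allPow 22880 (finalStep fact node item1 T1 172966 1 22880) 10 10240 = true := by decide +kernel
theorem final1_c11 : allPow 22880 (finalStep fact node item1 T1 172966 1 22880) 10 11264 = true := by decide +kernel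
theorem final1_c12 : allPow 22880 (finalStep fact node item1 T1 172966 1 22880) 10 12288 = true := by decide +kernel
theorem final1_c13 : allPow 22880 (finalStep fact node item1 T1 172966 1 22880) 10 13312 = true := by decide +kernel
theorem final1_c14 : allPow 22880 (finalStep fact node item1 T1 172966 1 22880) 10 14336 = true := by decide +kernel
theorem final1_c15 : allPow 22880 (finalStep fact node item1 T1 172966 1 22880) 10 15360 = true := by decide +kernel
theorem final1_c16 : allPow 22880 (finalStep fact node item1 T1 172966 1 22880) 10 16384 = true := by decide +kernel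
theorem final1_c17 : allPow 22880 (finalStep fact node item1 T1 172966 1 22880) 10 17408 = true := by decide +kernel
theorem final1_c18 : allPow 22880 (finalStep fact node item1 T1 172966 1 22880) 10 18432 = true := by decide +kernel
theorem final1_c19 : allPow 22880 (finalStep fact node item1 T1 172966 1 22880) 10 19456 = true := by decide +kernel
theorem final1_c20 : allPow 22880 (finalStep fact node item1 T1 172966 1 22880) 10 20480 = true := by decide +kernel
theorem final1_c21 : allPow 22880 (finalStep fact node item1 T1 172966 1 22880) 10 21504 = true := by decide +kernel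
theorem final1_c22 : allPow 22880 (finalStep fact node item1 T1 172966 1 22880) 10 22528 = true := by decide +kernel
theorem final1 : allBelow 15 22880 (finalStep fact node item1 T1 172966 1 22880) = true :=
  allBelow_of_upto (hi := 23552)
    (Upto.trans (mid := 11264) (Upto.trans (mid := 5120) (Upto.trans (mid := 2048) (Upto.trans (mid := 1024) ((Upto.of_pow final1_c0 (Nat.le_refl _)) : Upto _ _ 0 (0 + 2 ^ 10))
    ((Upto.of_pow final1_c1 (Nat.le_refl _)) : Upto _ _ 1024 (1024 + 2 ^ 10)))
    (Upto.trans (mid := 3072) ((Upto.of_pow final1_c2 (Nat.le_refl _)) : Upto _ _ 2048 (2048 + 2 ^ 10))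
    (Upto.trans (mid := 4096) ((Upto.of_pow final1_c3 (Nat.le_refl _)) : Upto _ _ 3072 (3072 + 2 ^ 10))
    ((Upto.of_pow final1_c4 (Nat.le_refl _)) : Upto _ _ 4096 (4096 + 2 ^ 10)))))
    (Upto.trans (mid := 8192) (Upto.trans (mid := 6144) ((Upto.of_pow final1_c5 (Nat.le_refl _)) : Upto _ _ 5120 (5120 + 2 ^ 10))
    (Upto.trans (mid := 7168) ((Upto.of_pow final1_c6 (Nat.le_refl _)) : Upto _ _ 6144 (6144 + 2 ^ 10))
    ((Upto.of_pow final1_c7 (Nat.le_refl _)) : Upto _ _ 7168 (7168 + 2 ^ 10))))
    (Upto.trans (mid := 9216) ((Upto.of_pow final1_c8 (Nat.le_refl _)) : Upto _ _ 8192 (8192 + 2 ^ 10))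
    (Upto.trans (mid := 10240) ((Upto.of_pow final1_c9 (Nat.le_refl _)) : Upto _ _ 9216 (9216 + 2 ^ 10))
    ((Upto.of_pow final1_c10 (Nat.le_refl _)) : Upto _ _ 10240 (10240 + 2 ^ 10))))))
    (Upto.trans (mid := 17408) (Upto.trans (mid := 14336) (Upto.trans (mid := 12288) ((Upto.of_pow final1_c11 (Nat.le_refl _)) : Upto _ _ 11264 (11264 + 2 ^ 10))
    (Upto.trans (mid := 13312) ((Upto.of_pow final1_c12 (Nat.le_refl _)) : Upto _ _ 12288 (12288 + 2 ^ 10))
    ((Upto.of_pow final1_c13 (Nat.le_refl _)) : Upto _ _ 13312 (13312 + 2 ^ 10))))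
    (Upto.trans (mid := 15360) ((Upto.of_pow final1_c14 (Nat.le_refl _)) : Upto _ _ 14336 (14336 + 2 ^ 10))
    (Upto.trans (mid := 16384) ((Upto.of_pow final1_c15 (Nat.le_refl _)) : Upto _ _ 15360 (15360 + 2 ^ 10))
    ((Upto.of_pow final1_c16 (Nat.le_refl _)) : Upto _ _ 16384 (16384 + 2 ^ 10)))))
    (Upto.trans (mid := 20480) (Upto.trans (mid := 18432) ((Upto.of_pow final1_c17 (Nat.le_refl _)) : Upto _ _ 17408 (17408 + 2 ^ 10))
    (Upto.trans (mid := 19456) ((Upto.of_pow final1_c18 (Nat.le_refl _)) : Upto _ _ 18432 (18432 + 2 ^ 10))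
    ((Upto.of_pow final1_c19 (Nat.le_refl _)) : Upto _ _ 19456 (19456 + 2 ^ 10))))
    (Upto.trans (mid := 21504) ((Upto.of_pow final1_c20 (Nat.le_refl _)) : Upto _ _ 20480 (20480 + 2 ^ 10))
    (Upto.trans (mid := 22528) ((Upto.of_pow final1_c21 (Nat.le_refl _)) : Upto _ _ 21504 (21504 + 2 ^ 10))
    ((Upto.of_pow final1_c22 (Nat.le_refl _)) : Upto _ _ 22528 (22528 + 2 ^ 10)))))))
    (by decide) (by decide)

theorem final2_c0 : allPow 22880 (finalStep fact node item2 T2 172966 2 22880) 10 0 = true := by decide +kernel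
theorem final2_c1 : allPow 22880 (finalStep fact node item2 T2 172966 2 22880) 10 1024 = true := by decide +kernel
theorem final2_c2 : allPow 22880 (finalStep fact node item2 T2 172966 2 22880) 10 2048 = true := by decide +kernel
theorem final2_c3 : allPow 22880 (finalStep fact node item2 T2 172966 2 22880) 10 3072 = true := by decide +kernel
theorem final2_c4 : allPow 22880 (finalStep fact node item2 T2 172966 2 22880) 10 4096 = true := by decide +kernel
theorem final2_c5 : allPow 22880 (finalStep fact node item2 T2 172966 2 22880) 10 5120 = true := by decide +kernel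
theorem final2_c6 : allPow 22880 (finalStep fact node item2 T2 172966 2 22880) 10 6144 = true := by decide +kernel
theorem final2_c7 : allPow 22880 (finalStep fact node item2 T2 172966 2 22880) 10 7168 = true := by decide +kernel
theorem final2_c8 : allPow 22880 (finalStep fact node item2 T2 172966 2 22880) 10 8192 = true := by decide +kernel
theorem final2_c9 : allPow 22880 (finalStep fact node item2 T2 172966 2 22880) 10 9216 = true := by decide +kernel
theorem final2_c10 : allPow 22880 (finalStep fact node item2 T2 172966 2 22880) 10 10240 = true := by decide +kernel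
theorem final2_c11 : allPow 22880 (finalStep fact node item2 T2 172966 2 22880) 10 11264 = true := by decide +kernel
theorem final2_c12 : allPow 22880 (finalStep fact node item2 T2 172966 2 22880) 10 12288 = true := by decide +kernel
theorem final2_c13 : allPow 22880 (finalStep fact node item2 T2 172966 2 22880) 10 13312 = true := by decide +kernel
theorem final2_c14 : allPow 22880 (finalStep fact node item2 T2 172966 2 22880) 10 14336 = true := by decide +kernel
theorem final2_c15 : allPow 22880 (finalStep fact node item2 T2 172966 2 22880) 10 15360 = true := by decide +kernel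
theorem final2_c16 : allPow 22880 (finalStep fact node item2 T2 172966 2 22880) 10 16384 = true := by decide +kernel
theorem final2_c17 : allPow 22880 (finalStep fact node item2 T2 172966 2 22880) 10 17408 = true := by decide +kernel
theorem final2_c18 : allPow 22880 (finalStep fact node item2 T2 172966 2 22880) 10 18432 = true := by decide +kernel
theorem final2_c19 : allPow 22880 (finalStep fact node item2 T2 172966 2 22880) 10 19456 = true := by decide +kernel
theorem final2_c20 : allPow 22880 (finalStep fact node item2 T2 172966 2 22880) 10 20480 = true := by decide +kernel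
theorem final2_c21 : allPow 22880 (finalStep fact node item2 T2 172966 2 22880) 10 21504 = true := by decide +kernel
theorem final2_c22 : allPow 22880 (finalStep fact node item2 T2 172966 2 22880) 10 22528 = true := by decide +kernel
theorem final2 : allBelow 15 22880 (finalStep fact node item2 T2 172966 2 22880) = true :=
  allBelow_of_upto (hi := 23552)
    (Upto.trans (mid := 11264) (Upto.trans (mid := 5120) (Upto.trans (mid := 2048) (Upto.trans (mid := 1024) ((Upto.of_pow final2_c0 (Nat.le_refl _)) : Upto _ _ 0 (0 + 2 ^ 10))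
    ((Upto.of_pow final2_c1 (Nat.le_refl _)) : Upto _ _ 1024 (1024 + 2 ^ 10)))
    (Upto.trans (mid := 3072) ((Upto.of_pow final2_c2 (Nat.le_refl _)) : Upto _ _ 2048 (2048 + 2 ^ 10))
    (Upto.trans (mid := 4096) ((Upto.of_pow final2_c3 (Nat.le_refl _)) : Upto _ _ 3072 (3072 + 2 ^ 10))
    ((Upto.of_pow final2_c4 (Nat.le_refl _)) : Upto _ _ 4096 (4096 + 2 ^ 10)))))
    (Upto.trans (mid := 8192) (Upto.trans (mid := 6144) ((Upto.of_pow final2_c5 (Nat.le_refl _)) : Upto _ _ 5120 (5120 + 2 ^ 10))
    (Upto.trans (mid := 7168) ((Upto.of_pow final2_c6 (Nat.le_refl _)) : Upto _ _ 6144 (6144 + 2 ^ 10))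
    ((Upto.of_pow final2_c7 (Nat.le_refl _)) : Upto _ _ 7168 (7168 + 2 ^ 10))))
    (Upto.trans (mid := 9216) ((Upto.of_pow final2_c8 (Nat.le_refl _)) : Upto _ _ 8192 (8192 + 2 ^ 10))
    (Upto.trans (mid := 10240) ((Upto.of_pow final2_c9 (Nat.le_refl _)) : Upto _ _ 9216 (9216 + 2 ^ 10))
    ((Upto.of_pow final2_c10 (Nat.le_refl _)) : Upto _ _ 10240 (10240 + 2 ^ 10))))))
    (Upto.trans (mid := 17408) (Upto.trans (mid := 14336) (Upto.trans (mid := 12288) ((Upto.of_pow final2_c11 (Nat.le_refl _)) : Upto _ _ 11264 (11264 + 2 ^ 10))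
    (Upto.trans (mid := 13312) ((Upto.of_pow final2_c12 (Nat.le_refl _)) : Upto _ _ 12288 (12288 + 2 ^ 10))
    ((Upto.of_pow final2_c13 (Nat.le_refl _)) : Upto _ _ 13312 (13312 + 2 ^ 10))))
    (Upto.trans (mid := 15360) ((Upto.of_pow final2_c14 (Nat.le_refl _)) : Upto _ _ 14336 (14336 + 2 ^ 10))
    (Upto.trans (mid := 16384) ((Upto.of_pow final2_c15 (Nat.le_refl _)) : Upto _ _ 15360 (15360 + 2 ^ 10))
    ((Upto.of_pow final2_c16 (Nat.le_refl _)) : Upto _ _ 16384 (16384 + 2 ^ 10)))))
    (Upto.trans (mid := 20480) (Upto.trans (mid := 18432) ((Upto.of_pow final2_c17 (Nat.le_refl _)) : Upto _ _ 17408 (17408 + 2 ^ 10))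
    (Upto.trans (mid := 19456) ((Upto.of_pow final2_c18 (Nat.le_refl _)) : Upto _ _ 18432 (18432 + 2 ^ 10))
    ((Upto.of_pow final2_c19 (Nat.le_refl _)) : Upto _ _ 19456 (19456 + 2 ^ 10))))
    (Upto.trans (mid := 21504) ((Upto.of_pow final2_c20 (Nat.le_refl _)) : Upto _ _ 20480 (20480 + 2 ^ 10))
    (Upto.trans (mid := 22528) ((Upto.of_pow final2_c21 (Nat.le_refl _)) : Upto _ _ 21504 (21504 + 2 ^ 10))
    ((Upto.of_pow final2_c22 (Nat.le_refl _)) : Upto _ _ 22528 (22528 + 2 ^ 10)))))))
    (by decide) (by decide)

theorem final3_c0 : allPow 22880 (finalStep fact node item3 T3 172966 3 22880) 10 0 = true := by decide +kernel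
theorem final3_c1 : allPow 22880 (finalStep fact node item3 T3 172966 3 22880) 10 1024 = true := by decide +kernel
theorem final3_c2 : allPow 22880 (finalStep fact node item3 T3 172966 3 22880) 10 2048 = true := by decide +kernel
theorem final3_c3 : allPow 22880 (finalStep fact node item3 T3 172966 3 22880) 10 3072 = true := by decide +kernel
theorem final3_c4 : allPow 22880 (finalStep fact node item3 T3 172966 3 22880) 10 4096 = true := by decide +kernel
theorem final3_c5 : allPow 22880 (finalStep fact node item3 T3 172966 3 22880) 10 5120 = true := by decide +kernel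
theorem final3_c6 : allPow 22880 (finalStep fact node item3 T3 172966 3 22880) 10 6144 = true := by decide +kernel
theorem final3_c7 : allPow 22880 (finalStep fact node item3 T3 172966 3 22880) 10 7168 = true := by decide +kernel
theorem final3_c8 : allPow 22880 (finalStep fact node item3 T3 172966 3 22880) 10 8192 = true := by decide +kernel
theorem final3_c9 : allPow 22880 (finalStep fact node item3 T3 172966 3 22880) 10 9216 = true := by decide +kernel
theorem final3_c10 : allPow 22880 (finalStep fact node item3 T3 172966 3 22880) 10 10240 = true := by decide +kernel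
theorem final3_c11 : allPow 22880 (finalStep fact node item3 T3 172966 3 22880) 10 11264 = true := by decide +kernel
theorem final3_c12 : allPow 22880 (finalStep fact node item3 T3 172966 3 22880) 10 12288 = true := by decide +kernel
theorem final3_c13 : allPow 22880 (finalStep fact node item3 T3 172966 3 22880) 10 13312 = true := by decide +kernel
theorem final3_c14 : allPow 22880 (finalStep fact node item3 T3 172966 3 22880) 10 14336 = true := by decide +kernel
theorem final3_c15 : allPow 22880 (finalStep fact node item3 T3 172966 3 22880) 10 15360 = true := by decide +kernel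
theorem final3_c16 : allPow 22880 (finalStep fact node item3 T3 172966 3 22880) 10 16384 = true := by decide +kernel
theorem final3_c17 : allPow 22880 (finalStep fact node item3 T3 172966 3 22880) 10 17408 = true := by decide +kernel
theorem final3_c18 : allPow 22880 (finalStep fact node item3 T3 172966 3 22880) 10 18432 = true := by decide +kernel
theorem final3_c19 : allPow 22880 (finalStep fact node item3 T3 172966 3 22880) 10 19456 = true := by decide +kernel
theorem final3_c20 : allPow 22880 (finalStep fact node item3 T3 172966 3 22880) 10 20480 = true := by decide +kernel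
theorem final3_c21 : allPow 22880 (finalStep fact node item3 T3 172966 3 22880) 10 21504 = true := by decide +kernel
theorem final3_c22 : allPow 22880 (finalStep fact node item3 T3 172966 3 22880) 10 22528 = true := by decide +kernel
theorem final3 : allBelow 15 22880 (finalStep fact node item3 T3 172966 3 22880) = true :=
  allBelow_of_upto (hi := 23552)
    (Upto.trans (mid := 11264) (Upto.trans (mid := 5120) (Upto.trans (mid := 2048) (Upto.trans (mid := 1024) ((Upto.of_pow final3_c0 (Nat.le_refl _)) : Upto _ _ 0 (0 + 2 ^ 10))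
    ((Upto.of_pow final3_c1 (Nat.le_refl _)) : Upto _ _ 1024 (1024 + 2 ^ 10)))
    (Upto.trans (mid := 3072) ((Upto.of_pow final3_c2 (Nat.le_refl _)) : Upto _ _ 2048 (2048 + 2 ^ 10))
    (Upto.trans (mid := 4096) ((Upto.of_pow final3_c3 (Nat.le_refl _)) : Upto _ _ 3072 (3072 + 2 ^ 10))
    ((Upto.of_pow final3_c4 (Nat.le_refl _)) : Upto _ _ 4096 (4096 + 2 ^ 10)))))
    (Upto.trans (mid := 8192) (Upto.trans (mid := 6144) ((Upto.of_pow final3_c5 (Nat.le_refl _)) : Upto _ _ 5120 (5120 + 2 ^ 10))
    (Upto.trans (mid := 7168) ((Upto.of_pow final3_c6 (Nat.le_refl _)) : Upto _ _ 6144 (6144 + 2 ^ 10))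
    ((Upto.of_pow final3_c7 (Nat.le_refl _)) : Upto _ _ 7168 (7168 + 2 ^ 10))))
    (Upto.trans (mid := 9216) ((Upto.of_pow final3_c8 (Nat.le_refl _)) : Upto _ _ 8192 (8192 + 2 ^ 10))
    (Upto.trans (mid := 10240) ((Upto.of_pow final3_c9 (Nat.le_refl _)) : Upto _ _ 9216 (9216 + 2 ^ 10))
    ((Upto.of_pow final3_c10 (Nat.le_refl _)) : Upto _ _ 10240 (10240 + 2 ^ 10))))))
    (Upto.trans (mid := 17408) (Upto.trans (mid := 14336) (Upto.trans (mid := 12288) ((Upto.of_pow final3_c11 (Nat.le_refl _)) : Upto _ _ 11264 (11264 + 2 ^ 10))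
    (Upto.trans (mid := 13312) ((Upto.of_pow final3_c12 (Nat.le_refl _)) : Upto _ _ 12288 (12288 + 2 ^ 10))
    ((Upto.of_pow final3_c13 (Nat.le_refl _)) : Upto _ _ 13312 (13312 + 2 ^ 10))))
    (Upto.trans (mid := 15360) ((Upto.of_pow final3_c14 (Nat.le_refl _)) : Upto _ _ 14336 (14336 + 2 ^ 10))
    (Upto.trans (mid := 16384) ((Upto.of_pow final3_c15 (Nat.le_refl _)) : Upto _ _ 15360 (15360 + 2 ^ 10))
    ((Upto.of_pow final3_c16 (Nat.le_refl _)) : Upto _ _ 16384 (16384 + 2 ^ 10)))))
    (Upto.trans (mid := 20480) (Upto.trans (mid := 18432) ((Upto.of_pow final3_c17 (Nat.le_refl _)) : Upto _ _ 17408 (17408 + 2 ^ 10))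
    (Upto.trans (mid := 19456) ((Upto.of_pow final3_c18 (Nat.le_refl _)) : Upto _ _ 18432 (18432 + 2 ^ 10))
    ((Upto.of_pow final3_c19 (Nat.le_refl _)) : Upto _ _ 19456 (19456 + 2 ^ 10))))
    (Upto.trans (mid := 21504) ((Upto.of_pow final3_c20 (Nat.le_refl _)) : Upto _ _ 20480 (20480 + 2 ^ 10))
    (Upto.trans (mid := 22528) ((Upto.of_pow final3_c21 (Nat.le_refl _)) : Upto _ _ 21504 (21504 + 2 ^ 10))
    ((Upto.of_pow final3_c22 (Nat.le_refl _)) : Upto _ _ 22528 (22528 + 2 ^ 10)))))))
    (by decide) (by decide)

theorem final4_c0 : allPow 22880 (finalStep fact node item4 T4 172966 4 22880) 10 0 = true := by decide +kernel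
theorem final4_c1 : allPow 22880 (finalStep fact node item4 T4 172966 4 22880) 10 1024 = true := by decide +kernel
theorem final4_c2 : allPow 22880 (finalStep fact node item4 T4 172966 4 22880) 10 2048 = true := by decide +kernel
theorem final4_c3 : allPow 22880 (finalStep fact node item4 T4 172966 4 22880) 10 3072 = true := by decide +kernel
theorem final4_c4 : allPow 22880 (finalStep fact node item4 T4 172966 4 22880) 10 4096 = true := by decide +kernel
theorem final4_c5 : allPow 22880 (finalStep fact node item4 T4 172966 4 22880) 10 5120 = true := by decide +kernel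
theorem final4_c6 : allPow 22880 (finalStep fact node item4 T4 172966 4 22880) 10 6144 = true := by decide +kernel
theorem final4_c7 : allPow 22880 (finalStep fact node item4 T4 172966 4 22880) 10 7168 = true := by decide +kernel
theorem final4_c8 : allPow 22880 (finalStep fact node item4 T4 172966 4 22880) 10 8192 = true := by decide +kernel
theorem final4_c9 : allPow 22880 (finalStep fact node item4 T4 172966 4 22880) 10 9216 = true := by decide +kernel
theorem final4_c10 : allPow 22880 (finalStep fact node item4 T4 172966 4 22880) 10 10240 = true := by decide +kernel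
theorem final4_c11 : allPow 22880 (finalStep fact node item4 T4 172966 4 22880) 10 11264 = true := by decide +kernel
theorem final4_c12 : allPow 22880 (finalStep fact node item4 T4 172966 4 22880) 10 12288 = true := by decide +kernel
theorem final4_c13 : allPow 22880 (finalStep fact node item4 T4 172966 4 22880) 10 13312 = true := by decide +kernel
theorem final4_c14 : allPow 22880 (finalStep fact node item4 T4 172966 4 22880) 10 14336 = true := by decide +kernel
theorem final4_c15 : allPow 22880 (finalStep fact node item4 T4 172966 4 22880) 10 15360 = true := by decide +kernel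
theorem final4_c16 : allPow 22880 (finalStep fact node item4 T4 172966 4 22880) 10 16384 = true := by decide +kernel
theorem final4_c17 : allPow 22880 (finalStep fact node item4 T4 172966 4 22880) 10 17408 = true := by decide +kernel
theorem final4_c18 : allPow 22880 (finalStep fact node item4 T4 172966 4 22880) 10 18432 = true := by decide +kernel
theorem final4_c19 : allPow 22880 (finalStep fact node item4 T4 172966 4 22880) 10 19456 = true := by decide +kernel
theorem final4_c20 : allPow 22880 (finalStep fact node item4 T4 172966 4 22880) 10 20480 = true := by decide +kernel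
theorem final4_c21 : allPow 22880 (finalStep fact node item4 T4 172966 4 22880) 10 21504 = true := by decide +kernel
theorem final4_c22 : allPow 22880 (finalStep fact node item4 T4 172966 4 22880) 10 22528 = true := by decide +kernel
theorem final4 : allBelow 15 22880 (finalStep fact node item4 T4 172966 4 22880) = true :=
  allBelow_of_upto (hi := 23552)
    (Upto.trans (mid := 11264) (Upto.trans (mid := 5120) (Upto.trans (mid := 2048) (Upto.trans (mid := 1024) ((Upto.of_pow final4_c0 (Nat.le_refl _)) : Upto _ _ 0 (0 + 2 ^ 10))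
    ((Upto.of_pow final4_c1 (Nat.le_refl _)) : Upto _ _ 1024 (1024 + 2 ^ 10)))
    (Upto.trans (mid := 3072) ((Upto.of_pow final4_c2 (Nat.le_refl _)) : Upto _ _ 2048 (2048 + 2 ^ 10))
    (Upto.trans (mid := 4096) ((Upto.of_pow final4_c3 (Nat.le_refl _)) : Upto _ _ 3072 (3072 + 2 ^ 10))
    ((Upto.of_pow final4_c4 (Nat.le_refl _)) : Upto _ _ 4096 (4096 + 2 ^ 10)))))
    (Upto.trans (mid := 8192) (Upto.trans (mid := 6144) ((Upto.of_pow final4_c5 (Nat.le_refl _)) : Upto _ _ 5120 (5120 + 2 ^ 10))
    (Upto.trans (mid := 7168) ((Upto.of_pow final4_c6 (Nat.le_refl _)) : Upto _ _ 6144 (6144 + 2 ^ 10))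
    ((Upto.of_pow final4_c7 (Nat.le_refl _)) : Upto _ _ 7168 (7168 + 2 ^ 10))))
    (Upto.trans (mid := 9216) ((Upto.of_pow final4_c8 (Nat.le_refl _)) : Upto _ _ 8192 (8192 + 2 ^ 10))
    (Upto.trans (mid := 10240) ((Upto.of_pow final4_c9 (Nat.le_refl _)) : Upto _ _ 9216 (9216 + 2 ^ 10))
    ((Upto.of_pow final4_c10 (Nat.le_refl _)) : Upto _ _ 10240 (10240 + 2 ^ 10))))))
    (Upto.trans (mid := 17408) (Upto.trans (mid := 14336) (Upto.trans (mid := 12288) ((Upto.of_pow final4_c11 (Nat.le_refl _)) : Upto _ _ 11264 (11264 + 2 ^ 10))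
    (Upto.trans (mid := 13312) ((Upto.of_pow final4_c12 (Nat.le_refl _)) : Upto _ _ 12288 (12288 + 2 ^ 10))
    ((Upto.of_pow final4_c13 (Nat.le_refl _)) : Upto _ _ 13312 (13312 + 2 ^ 10))))
    (Upto.trans (mid := 15360) ((Upto.of_pow final4_c14 (Nat.le_refl _)) : Upto _ _ 14336 (14336 + 2 ^ 10))
    (Upto.trans (mid := 16384) ((Upto.of_pow final4_c15 (Nat.le_refl _)) : Upto _ _ 15360 (15360 + 2 ^ 10))
    ((Upto.of_pow final4_c16 (Nat.le_refl _)) : Upto _ _ 16384 (16384 + 2 ^ 10)))))
    (Upto.trans (mid := 20480) (Upto.trans (mid := 18432) ((Upto.of_pow final4_c17 (Nat.le_refl _)) : Upto _ _ 17408 (17408 + 2 ^ 10))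
    (Upto.trans (mid := 19456) ((Upto.of_pow final4_c18 (Nat.le_refl _)) : Upto _ _ 18432 (18432 + 2 ^ 10))
    ((Upto.of_pow final4_c19 (Nat.le_refl _)) : Upto _ _ 19456 (19456 + 2 ^ 10))))
    (Upto.trans (mid := 21504) ((Upto.of_pow final4_c20 (Nat.le_refl _)) : Upto _ _ 20480 (20480 + 2 ^ 10))
    (Upto.trans (mid := 22528) ((Upto.of_pow final4_c21 (Nat.le_refl _)) : Upto _ _ 21504 (21504 + 2 ^ 10))
    ((Upto.of_pow final4_c22 (Nat.le_refl _)) : Upto _ _ 22528 (22528 + 2 ^ 10)))))))
    (by decide) (by decide)

theorem final5_c0 : allPow 22880 (finalStep fact node item5 T5 172966 5 22880) 10 0 = true := by decide +kernel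
theorem final5_c1 : allPow 22880 (finalStep fact node item5 T5 172966 5 22880) 10 1024 = true := by decide +kernel
theorem final5_c2 : allPow 22880 (finalStep fact node item5 T5 172966 5 22880) 10 2048 = true := by decide +kernel
theorem final5_c3 : allPow 22880 (finalStep fact node item5 T5 172966 5 22880) 10 3072 = true := by decide +kernel
theorem final5_c4 : allPow 22880 (finalStep fact node item5 T5 172966 5 22880) 10 4096 = true := by decide +kernel
theorem final5_c5 : allPow 22880 (finalStep fact node item5 T5 172966 5 22880) 10 5120 = true := by decide +kernel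
theorem final5_c6 : allPow 22880 (finalStep fact node item5 T5 172966 5 22880) 10 6144 = true := by decide +kernel
theorem final5_c7 : allPow 22880 (finalStep fact node item5 T5 172966 5 22880) 10 7168 = true := by decide +kernel
theorem final5_c8 : allPow 22880 (finalStep fact node item5 T5 172966 5 22880) 10 8192 = true := by decide +kernel
theorem final5_c9 : allPow 22880 (finalStep fact node item5 T5 172966 5 22880) 10 9216 = true := by decide +kernel
theorem final5_c10 : allPow 22880 (finalStep fact node item5 T5 172966 5 22880) 10 10240 = true := by decide +kernel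
theorem final5_c11 : allPow 22880 (finalStep fact node item5 T5 172966 5 22880) 10 11264 = true := by decide +kernel
theorem final5_c12 : allPow 22880 (finalStep fact node item5 T5 172966 5 22880) 10 12288 = true := by decide +kernel
theorem final5_c13 : allPow 22880 (finalStep fact node item5 T5 172966 5 22880) 10 13312 = true := by decide +kernel
theorem final5_c14 : allPow 22880 (finalStep fact node item5 T5 172966 5 22880) 10 14336 = true := by decide +kernel
theorem final5_c15 : allPow 22880 (finalStep fact node item5 T5 172966 5 22880) 10 15360 = true := by decide +kernel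
theorem final5_c16 : allPow 22880 (finalStep fact node item5 T5 172966 5 22880) 10 16384 = true := by decide +kernel
theorem final5_c17 : allPow 22880 (finalStep fact node item5 T5 172966 5 22880) 10 17408 = true := by decide +kernel
theorem final5_c18 : allPow 22880 (finalStep fact node item5 T5 172966 5 22880) 10 18432 = true := by decide +kernel
theorem final5_c19 : allPow 22880 (finalStep fact node item5 T5 172966 5 22880) 10 19456 = true := by decide +kernel
theorem final5_c20 : allPow 22880 (finalStep fact node item5 T5 172966 5 22880) 10 20480 = true := by decide +kernel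
theorem final5_c21 : allPow 22880 (finalStep fact node item5 T5 172966 5 22880) 10 21504 = true := by decide +kernel
theorem final5_c22 : allPow 22880 (finalStep fact node item5 T5 172966 5 22880) 10 22528 = true := by decide +kernel
theorem final5 : allBelow 15 22880 (finalStep fact node item5 T5 172966 5 22880) = true :=
  allBelow_of_upto (hi := 23552)
    (Upto.trans (mid := 11264) (Upto.trans (mid := 5120) (Upto.trans (mid := 2048) (Upto.trans (mid := 1024) ((Upto.of_pow final5_c0 (Nat.le_refl _)) : Upto _ _ 0 (0 + 2 ^ 10))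
    ((Upto.of_pow final5_c1 (Nat.le_refl _)) : Upto _ _ 1024 (1024 + 2 ^ 10)))
    (Upto.trans (mid := 3072) ((Upto.of_pow final5_c2 (Nat.le_refl _)) : Upto _ _ 2048 (2048 + 2 ^ 10))
    (Upto.trans (mid := 4096) ((Upto.of_pow final5_c3 (Nat.le_refl _)) : Upto _ _ 3072 (3072 + 2 ^ 10))
    ((Upto.of_pow final5_c4 (Nat.le_refl _)) : Upto _ _ 4096 (4096 + 2 ^ 10)))))
    (Upto.trans (mid := 8192) (Upto.trans (mid := 6144) ((Upto.of_pow final5_c5 (Nat.le_refl _)) : Upto _ _ 5120 (5120 + 2 ^ 10))
    (Upto.trans (mid := 7168) ((Upto.of_pow final5_c6 (Nat.le_refl _)) : Upto _ _ 6144 (6144 + 2 ^ 10))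
    ((Upto.of_pow final5_c7 (Nat.le_refl _)) : Upto _ _ 7168 (7168 + 2 ^ 10))))
    (Upto.trans (mid := 9216) ((Upto.of_pow final5_c8 (Nat.le_refl _)) : Upto _ _ 8192 (8192 + 2 ^ 10))
    (Upto.trans (mid := 10240) ((Upto.of_pow final5_c9 (Nat.le_refl _)) : Upto _ _ 9216 (9216 + 2 ^ 10))
    ((Upto.of_pow final5_c10 (Nat.le_refl _)) : Upto _ _ 10240 (10240 + 2 ^ 10))))))
    (Upto.trans (mid := 17408) (Upto.trans (mid := 14336) (Upto.trans (mid := 12288) ((Upto.of_pow final5_c11 (Nat.le_refl _)) : Upto _ _ 11264 (11264 + 2 ^ 10))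
    (Upto.trans (mid := 13312) ((Upto.of_pow final5_c12 (Nat.le_refl _)) : Upto _ _ 12288 (12288 + 2 ^ 10))
    ((Upto.of_pow final5_c13 (Nat.le_refl _)) : Upto _ _ 13312 (13312 + 2 ^ 10))))
    (Upto.trans (mid := 15360) ((Upto.of_pow final5_c14 (Nat.le_refl _)) : Upto _ _ 14336 (14336 + 2 ^ 10))
    (Upto.trans (mid := 16384) ((Upto.of_pow final5_c15 (Nat.le_refl _)) : Upto _ _ 15360 (15360 + 2 ^ 10))
    ((Upto.of_pow final5_c16 (Nat.le_refl _)) : Upto _ _ 16384 (16384 + 2 ^ 10)))))
    (Upto.trans (mid := 20480) (Upto.trans (mid := 18432) ((Upto.of_pow final5_c17 (Nat.le_refl _)) : Upto _ _ 17408 (17408 + 2 ^ 10))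
    (Upto.trans (mid := 19456) ((Upto.of_pow final5_c18 (Nat.le_refl _)) : Upto _ _ 18432 (18432 + 2 ^ 10))
    ((Upto.of_pow final5_c19 (Nat.le_refl _)) : Upto _ _ 19456 (19456 + 2 ^ 10))))
    (Upto.trans (mid := 21504) ((Upto.of_pow final5_c20 (Nat.le_refl _)) : Upto _ _ 20480 (20480 + 2 ^ 10))
    (Upto.trans (mid := 22528) ((Upto.of_pow final5_c21 (Nat.le_refl _)) : Upto _ _ 21504 (21504 + 2 ^ 10))
    ((Upto.of_pow final5_c22 (Nat.le_refl _)) : Upto _ _ 22528 (22528 + 2 ^ 10)))))))
    (by decide) (by decide)

theorem final6_c0 : allPow 22880 (finalStep fact node item6 T6 172966 6 22880) 10 0 = true := by decide +kernel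
theorem final6_c1 : allPow 22880 (finalStep fact node item6 T6 172966 6 22880) 10 1024 = true := by decide +kernel
theorem final6_c2 : allPow 22880 (finalStep fact node item6 T6 172966 6 22880) 10 2048 = true := by decide +kernel
theorem final6_c3 : allPow 22880 (finalStep fact node item6 T6 172966 6 22880) 10 3072 = true := by decide +kernel
theorem final6_c4 : allPow 22880 (finalStep fact node item6 T6 172966 6 22880) 10 4096 = true := by decide +kernel
theorem final6_c5 : allPow 22880 (finalStep fact node item6 T6 172966 6 22880) 10 5120 = true := by decide +kernel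
theorem final6_c6 : allPow 22880 (finalStep fact node item6 T6 172966 6 22880) 10 6144 = true := by decide +kernel
theorem final6_c7 : allPow 22880 (finalStep fact node item6 T6 172966 6 22880) 10 7168 = true := by decide +kernel
theorem final6_c8 : allPow 22880 (finalStep fact node item6 T6 172966 6 22880) 10 8192 = true := by decide +kernel
theorem final6_c9 : allPow 22880 (finalStep fact node item6 T6 172966 6 22880) 10 9216 = true := by decide +kernel
theorem final6_c10 : allPow 22880 (finalStep fact node item6 T6 172966 6 22880) 10 10240 = true := by decide +kernel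
theorem final6_c11 : allPow 22880 (finalStep fact node item6 T6 172966 6 22880) 10 11264 = true := by decide +kernel
theorem final6_c12 : allPow 22880 (finalStep fact node item6 T6 172966 6 22880) 10 12288 = true := by decide +kernel
theorem final6_c13 : allPow 22880 (finalStep fact node item6 T6 172966 6 22880) 10 13312 = true := by decide +kernel
theorem final6_c14 : allPow 22880 (finalStep fact node item6 T6 172966 6 22880) 10 14336 = true := by decide +kernel
theorem final6_c15 : allPow 22880 (finalStep fact node item6 T6 172966 6 22880) 10 15360 = true := by decide +kernel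
theorem final6_c16 : allPow 22880 (finalStep fact node item6 T6 172966 6 22880) 10 16384 = true := by decide +kernel
theorem final6_c17 : allPow 22880 (finalStep fact node item6 T6 172966 6 22880) 10 17408 = true := by decide +kernel
theorem final6_c18 : allPow 22880 (finalStep fact node item6 T6 172966 6 22880) 10 18432 = true := by decide +kernel
theorem final6_c19 : allPow 22880 (finalStep fact node item6 T6 172966 6 22880) 10 19456 = true := by decide +kernel
theorem final6_c20 : allPow 22880 (finalStep fact node item6 T6 172966 6 22880) 10 20480 = true := by decide +kernel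
theorem final6_c21 : allPow 22880 (finalStep fact node item6 T6 172966 6 22880) 10 21504 = true := by decide +kernel
theorem final6_c22 : allPow 22880 (finalStep fact node item6 T6 172966 6 22880) 10 22528 = true := by decide +kernel
theorem final6 : allBelow 15 22880 (finalStep fact node item6 T6 172966 6 22880) = true :=
  allBelow_of_upto (hi := 23552)
    (Upto.trans (mid := 11264) (Upto.trans (mid := 5120) (Upto.trans (mid := 2048) (Upto.trans (mid := 1024) ((Upto.of_pow final6_c0 (Nat.le_refl _)) : Upto _ _ 0 (0 + 2 ^ 10))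
    ((Upto.of_pow final6_c1 (Nat.le_refl _)) : Upto _ _ 1024 (1024 + 2 ^ 10)))
    (Upto.trans (mid := 3072) ((Upto.of_pow final6_c2 (Nat.le_refl _)) : Upto _ _ 2048 (2048 + 2 ^ 10))
    (Upto.trans (mid := 4096) ((Upto.of_pow final6_c3 (Nat.le_refl _)) : Upto _ _ 3072 (3072 + 2 ^ 10))
    ((Upto.of_pow final6_c4 (Nat.le_refl _)) : Upto _ _ 4096 (4096 + 2 ^ 10)))))
    (Upto.trans (mid := 8192) (Upto.trans (mid := 6144) ((Upto.of_pow final6_c5 (Nat.le_refl _)) : Upto _ _ 5120 (5120 + 2 ^ 10))
    (Upto.trans (mid := 7168) ((Upto.of_pow final6_c6 (Nat.le_refl _)) : Upto _ _ 6144 (6144 + 2 ^ 10))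
    ((Upto.of_pow final6_c7 (Nat.le_refl _)) : Upto _ _ 7168 (7168 + 2 ^ 10))))
    (Upto.trans (mid := 9216) ((Upto.of_pow final6_c8 (Nat.le_refl _)) : Upto _ _ 8192 (8192 + 2 ^ 10))
    (Upto.trans (mid := 10240) ((Upto.of_pow final6_c9 (Nat.le_refl _)) : Upto _ _ 9216 (9216 + 2 ^ 10))
    ((Upto.of_pow final6_c10 (Nat.le_refl _)) : Upto _ _ 10240 (10240 + 2 ^ 10))))))
    (Upto.trans (mid := 17408) (Upto.trans (mid := 14336) (Upto.trans (mid := 12288) ((Upto.of_pow final6_c11 (Nat.le_refl _)) : Upto _ _ 11264 (11264 + 2 ^ 10))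
    (Upto.trans (mid := 13312) ((Upto.of_pow final6_c12 (Nat.le_refl _)) : Upto _ _ 12288 (12288 + 2 ^ 10))
    ((Upto.of_pow final6_c13 (Nat.le_refl _)) : Upto _ _ 13312 (13312 + 2 ^ 10))))
    (Upto.trans (mid := 15360) ((Upto.of_pow final6_c14 (Nat.le_refl _)) : Upto _ _ 14336 (14336 + 2 ^ 10))
    (Upto.trans (mid := 16384) ((Upto.of_pow final6_c15 (Nat.le_refl _)) : Upto _ _ 15360 (15360 + 2 ^ 10))
    ((Upto.of_pow final6_c16 (Nat.le_refl _)) : Upto _ _ 16384 (16384 + 2 ^ 10)))))
    (Upto.trans (mid := 20480) (Upto.trans (mid := 18432) ((Upto.of_pow final6_c17 (Nat.le_refl _)) : Upto _ _ 17408 (17408 + 2 ^ 10))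
    (Upto.trans (mid := 19456) ((Upto.of_pow final6_c18 (Nat.le_refl _)) : Upto _ _ 18432 (18432 + 2 ^ 10))
    ((Upto.of_pow final6_c19 (Nat.le_refl _)) : Upto _ _ 19456 (19456 + 2 ^ 10))))
    (Upto.trans (mid := 21504) ((Upto.of_pow final6_c20 (Nat.le_refl _)) : Upto _ _ 20480 (20480 + 2 ^ 10))
    (Upto.trans (mid := 22528) ((Upto.of_pow final6_c21 (Nat.le_refl _)) : Upto _ _ 21504 (21504 + 2 ^ 10))
    ((Upto.of_pow final6_c22 (Nat.le_refl _)) : Upto _ _ 22528 (22528 + 2 ^ 10)))))))
    (by decide) (by decide)

theorem final7_c0 : allPow 22880 (finalStep fact node item7 T7 172966 7 22880) 10 0 = true := by decide +kernel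
theorem final7_c1 : allPow 22880 (finalStep fact node item7 T7 172966 7 22880) 10 1024 = true := by decide +kernel
theorem final7_c2 : allPow 22880 (finalStep fact node item7 T7 172966 7 22880) 10 2048 = true := by decide +kernel
theorem final7_c3 : allPow 22880 (finalStep fact node item7 T7 172966 7 22880) 10 3072 = true := by decide +kernel
theorem final7_c4 : allPow 22880 (finalStep fact node item7 T7 172966 7 22880) 10 4096 = true := by decide +kernel
theorem final7_c5 : allPow 22880 (finalStep fact node item7 T7 172966 7 22880) 10 5120 = true := by decide +kernel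
theorem final7_c6 : allPow 22880 (finalStep fact node item7 T7 172966 7 22880) 10 6144 = true := by decide +kernel
theorem final7_c7 : allPow 22880 (finalStep fact node item7 T7 172966 7 22880) 10 7168 = true := by decide +kernel
theorem final7_c8 : allPow 22880 (finalStep fact node item7 T7 172966 7 22880) 10 8192 = true := by decide +kernel
theorem final7_c9 : allPow 22880 (finalStep fact node item7 T7 172966 7 22880) 10 9216 = true := by decide +kernel
theorem final7_c10 : allPow 22880 (finalStep fact node item7 T7 172966 7 22880) 10 10240 = true := by decide +kernel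
theorem final7_c11 : allPow 22880 (finalStep fact node item7 T7 172966 7 22880) 10 11264 = true := by decide +kernel
theorem final7_c12 : allPow 22880 (finalStep fact node item7 T7 172966 7 22880) 10 12288 = true := by decide +kernel
theorem final7_c13 : allPow 22880 (finalStep fact node item7 T7 172966 7 22880) 10 13312 = true := by decide +kernel
theorem final7_c14 : allPow 22880 (finalStep fact node item7 T7 172966 7 22880) 10 14336 = true := by decide +kernel
theorem final7_c15 : allPow 22880 (finalStep fact node item7 T7 172966 7 22880) 10 15360 = true := by decide +kernel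
theorem final7_c16 : allPow 22880 (finalStep fact node item7 T7 172966 7 22880) 10 16384 = true := by decide +kernel
theorem final7_c17 : allPow 22880 (finalStep fact node item7 T7 172966 7 22880) 10 17408 = true := by decide +kernel
theorem final7_c18 : allPow 22880 (finalStep fact node item7 T7 172966 7 22880) 10 18432 = true := by decide +kernel
theorem final7_c19 : allPow 22880 (finalStep fact node item7 T7 172966 7 22880) 10 19456 = true := by decide +kernel
theorem final7_c20 : allPow 22880 (finalStep fact node item7 T7 172966 7 22880) 10 20480 = true := by decide +kernel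
theorem final7_c21 : allPow 22880 (finalStep fact node item7 T7 172966 7 22880) 10 21504 = true := by decide +kernel
theorem final7_c22 : allPow 22880 (finalStep fact node item7 T7 172966 7 22880) 10 22528 = true := by decide +kernel
theorem final7 : allBelow 15 22880 (finalStep fact node item7 T7 172966 7 22880) = true :=
  allBelow_of_upto (hi := 23552)
    (Upto.trans (mid := 11264) (Upto.trans (mid := 5120) (Upto.trans (mid := 2048) (Upto.trans (mid := 1024) ((Upto.of_pow final7_c0 (Nat.le_refl _)) : Upto _ _ 0 (0 + 2 ^ 10))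
    ((Upto.of_pow final7_c1 (Nat.le_refl _)) : Upto _ _ 1024 (1024 + 2 ^ 10)))
    (Upto.trans (mid := 3072) ((Upto.of_pow final7_c2 (Nat.le_refl _)) : Upto _ _ 2048 (2048 + 2 ^ 10))
    (Upto.trans (mid := 4096) ((Upto.of_pow final7_c3 (Nat.le_refl _)) : Upto _ _ 3072 (3072 + 2 ^ 10))
    ((Upto.of_pow final7_c4 (Nat.le_refl _)) : Upto _ _ 4096 (4096 + 2 ^ 10)))))
    (Upto.trans (mid := 8192) (Upto.trans (mid := 6144) ((Upto.of_pow final7_c5 (Nat.le_refl _)) : Upto _ _ 5120 (5120 + 2 ^ 10))
    (Upto.trans (mid := 7168) ((Upto.of_pow final7_c6 (Nat.le_refl _)) : Upto _ _ 6144 (6144 + 2 ^ 10))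
    ((Upto.of_pow final7_c7 (Nat.le_refl _)) : Upto _ _ 7168 (7168 + 2 ^ 10))))
    (Upto.trans (mid := 9216) ((Upto.of_pow final7_c8 (Nat.le_refl _)) : Upto _ _ 8192 (8192 + 2 ^ 10))
    (Upto.trans (mid := 10240) ((Upto.of_pow final7_c9 (Nat.le_refl _)) : Upto _ _ 9216 (9216 + 2 ^ 10))
    ((Upto.of_pow final7_c10 (Nat.le_refl _)) : Upto _ _ 10240 (10240 + 2 ^ 10))))))
    (Upto.trans (mid := 17408) (Upto.trans (mid := 14336) (Upto.trans (mid := 12288) ((Upto.of_pow final7_c11 (Nat.le_refl _)) : Upto _ _ 11264 (11264 + 2 ^ 10))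
    (Upto.trans (mid := 13312) ((Upto.of_pow final7_c12 (Nat.le_refl _)) : Upto _ _ 12288 (12288 + 2 ^ 10))
    ((Upto.of_pow final7_c13 (Nat.le_refl _)) : Upto _ _ 13312 (13312 + 2 ^ 10))))
    (Upto.trans (mid := 15360) ((Upto.of_pow final7_c14 (Nat.le_refl _)) : Upto _ _ 14336 (14336 + 2 ^ 10))
    (Upto.trans (mid := 16384) ((Upto.of_pow final7_c15 (Nat.le_refl _)) : Upto _ _ 15360 (15360 + 2 ^ 10))
    ((Upto.of_pow final7_c16 (Nat.le_refl _)) : Upto _ _ 16384 (16384 + 2 ^ 10)))))
    (Upto.trans (mid := 20480) (Upto.trans (mid := 18432) ((Upto.of_pow final7_c17 (Nat.le_refl _)) : Upto _ _ 17408 (17408 + 2 ^ 10))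
    (Upto.trans (mid := 19456) ((Upto.of_pow final7_c18 (Nat.le_refl _)) : Upto _ _ 18432 (18432 + 2 ^ 10))
    ((Upto.of_pow final7_c19 (Nat.le_refl _)) : Upto _ _ 19456 (19456 + 2 ^ 10))))
    (Upto.trans (mid := 21504) ((Upto.of_pow final7_c20 (Nat.le_refl _)) : Upto _ _ 20480 (20480 + 2 ^ 10))
    (Upto.trans (mid := 22528) ((Upto.of_pow final7_c21 (Nat.le_refl _)) : Upto _ _ 21504 (21504 + 2 ^ 10))
    ((Upto.of_pow final7_c22 (Nat.le_refl _)) : Upto _ _ 22528 (22528 + 2 ^ 10)))))))
    (by decide) (by decide)

instance neZero : NeZero (22880 : Nat) := ⟨by decide⟩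

theorem certified : Certified (Cfsg.Spor.coxRelators Cfsg.Spor.Suz.edges ∪ {r | r ∈ Cfsg.Spor.Suz.extra}) subW 22880 tabs :=
  certified_of_checks (edges := Cfsg.Spor.Suz.edges) (pairs := pairs) (extra := Cfsg.Spor.Suz.extra) (extraW := extraW)
    (by decide +kernel) rfl invols relW (by decide +kernel) (by decide +kernel) subW lets data 22880 rfl
    rtriv rroot 33 39 rfl rfl (by decide +kernel) (by decide +kernel)
    (fun k hk => allBelow_spec defs_ok k hk) (covers1.trans (covers2.trans (covers3.trans (covers4.trans (covers5.trans (covers6.trans (covers7.trans (covers8.trans (covers9.trans (covers10.trans (covers11.trans (covers12.trans (covers13.trans (covers14)))))))))))))) (by decide +kernel)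
    (by
      intro i hi u hu
      have hi' : i < 7 := hi
      interval_cases i
      · exact allBelow_spec final1 u hu
      · exact allBelow_spec final2 u hu
      · exact allBelow_spec final3 u hu
      · exact allBelow_spec final4 u hu
      · exact allBelow_spec final5 u hu
      · exact allBelow_spec final6 u hu
      · exact allBelow_spec final7 u hu
      ) tabs tablesOK relW_ok subW_fix trans_ok
    (by
      intro a
      cases a
      · exact ⟨0, by decide, rfl, rfl⟩
      · exact ⟨1, by decide, rfl, rfl⟩
      · exact ⟨2, by decide, rfl, rfl⟩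
      · exact ⟨3, by decide, rfl, rfl⟩
      · exact ⟨4, by decide, rfl, rfl⟩
      · exact ⟨5, by decide, rfl, rfl⟩
      · exact ⟨6, by decide, rfl, rfl⟩
      )

end CfsgLib.SporRecognition.Cert.Suz22880
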