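import Cfsg.Agent.Lib.SporRecognition.Cert.Suz22880.PermBase

/-! Generated coset-enumeration certificate: Suz over <a, b, c, d, f, g>, 22880 cosets. -/

set_option autoImplicit false
set_option maxRecDepth 20000
set_option linter.all false
set_option Elab.async false

namespace CfsgLib.SporRecognition.Cert.Suz22880

open CfsgLib.SporRecognition.CosetCert

theorem relChk28_c0 : allPow 22880 (fixStep [T3, T4, T3, T4, T3, T4, T3, T4, T1]) 10 0 = true := by decide +kernel
theorem relChk28_c1 : allPow 22880 (fixStep [T3, T4, T3, T4, T3, T4, T3, T4, T1]) 10 1024 = true := by decide +kernel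
theorem relChk28_c2 : allPow 22880 (fixStep [T3, T4, T3, T4, T3, T4, T3, T4, T1]) 10 2048 = true := by decide +kernel
theorem relChk28_c3 : allPow 22880 (fixStep [T3, T4, T3, T4, T3, T4, T3, T4, T1]) 10 3072 = true := by decide +kernel
theorem relChk28_c4 : allPow 22880 (fixStep [T3, T4, T3, T4, T3, T4, T3, T4, T1]) 10 4096 = true := by decide +kernel
theorem relChk28_c5 : allPow 22880 (fixStep [T3, T4, T3, T4, T3, T4, T3, T4, T1]) 10 5120 = true := by decide +kernel
theorem relChk28_c6 : allPow 22880 (fixStep [T3, T4, T3, T4, T3, T4, T3, T4, T1]) 10 6144 = true := by decide +kernel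
theorem relChk28_c7 : allPow 22880 (fixStep [T3, T4, T3, T4, T3, T4, T3, T4, T1]) 10 7168 = true := by decide +kernel
theorem relChk28_c8 : allPow 22880 (fixStep [T3, T4, T3, T4, T3, T4, T3, T4, T1]) 10 8192 = true := by decide +kernel
theorem relChk28_c9 : allPow 22880 (fixStep [T3, T4, T3, T4, T3, T4, T3, T4, T1]) 10 9216 = true := by decide +kernel
theorem relChk28_c10 : allPow 22880 (fixStep [T3, T4, T3, T4, T3, T4, T3, T4, T1]) 10 10240 = true := by decide +kernel
theorem relChk28_c11 : allPow 22880 (fixStep [T3, T4, T3, T4, T3, T4, T3, T4, T1]) 10 11264 = true := by decide +kernel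
theorem relChk28_c12 : allPow 22880 (fixStep [T3, T4, T3, T4, T3, T4, T3, T4, T1]) 10 12288 = true := by decide +kernel
theorem relChk28_c13 : allPow 22880 (fixStep [T3, T4, T3, T4, T3, T4, T3, T4, T1]) 10 13312 = true := by decide +kernel
theorem relChk28_c14 : allPow 22880 (fixStep [T3, T4, T3, T4, T3, T4, T3, T4, T1]) 10 14336 = true := by decide +kernel
theorem relChk28_c15 : allPow 22880 (fixStep [T3, T4, T3, T4, T3, T4, T3, T4, T1]) 10 15360 = true := by decide +kernel
theorem relChk28_c16 : allPow 22880 (fixStep [T3, T4, T3, T4, T3, T4, T3, T4, T1]) 10 16384 = true := by decide +kernel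
theorem relChk28_c17 : allPow 22880 (fixStep [T3, T4, T3, T4, T3, T4, T3, T4, T1]) 10 17408 = true := by decide +kernel
theorem relChk28_c18 : allPow 22880 (fixStep [T3, T4, T3, T4, T3, T4, T3, T4, T1]) 10 18432 = true := by decide +kernel
theorem relChk28_c19 : allPow 22880 (fixStep [T3, T4, T3, T4, T3, T4, T3, T4, T1]) 10 19456 = true := by decide +kernel
theorem relChk28_c20 : allPow 22880 (fixStep [T3, T4, T3, T4, T3, T4, T3, T4, T1]) 10 20480 = true := by decide +kernel
theorem relChk28_c21 : allPow 22880 (fixStep [T3, T4, T3, T4, T3, T4, T3, T4, T1]) 10 21504 = true := by decide +kernel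
theorem relChk28_c22 : allPow 22880 (fixStep [T3, T4, T3, T4, T3, T4, T3, T4, T1]) 10 22528 = true := by decide +kernel
theorem relChk28 : allBelow 15 22880 (fixStep [T3, T4, T3, T4, T3, T4, T3, T4, T1]) = true :=
  allBelow_of_upto (hi := 23552)
    (Upto.trans (mid := 11264) (Upto.trans (mid := 5120) (Upto.trans (mid := 2048) (Upto.trans (mid := 1024) ((Upto.of_pow relChk28_c0 (Nat.le_refl _)) : Upto _ _ 0 (0 + 2 ^ 10))
    ((Upto.of_pow relChk28_c1 (Nat.le_refl _)) : Upto _ _ 1024 (1024 + 2 ^ 10)))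
    (Upto.trans (mid := 3072) ((Upto.of_pow relChk28_c2 (Nat.le_refl _)) : Upto _ _ 2048 (2048 + 2 ^ 10))
    (Upto.trans (mid := 4096) ((Upto.of_pow relChk28_c3 (Nat.le_refl _)) : Upto _ _ 3072 (3072 + 2 ^ 10))
    ((Upto.of_pow relChk28_c4 (Nat.le_refl _)) : Upto _ _ 4096 (4096 + 2 ^ 10)))))
    (Upto.trans (mid := 8192) (Upto.trans (mid := 6144) ((Upto.of_pow relChk28_c5 (Nat.le_refl _)) : Upto _ _ 5120 (5120 + 2 ^ 10))
    (Upto.trans (mid := 7168) ((Upto.of_pow relChk28_c6 (Nat.le_refl _)) : Upto _ _ 6144 (6144 + 2 ^ 10))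
    ((Upto.of_pow relChk28_c7 (Nat.le_refl _)) : Upto _ _ 7168 (7168 + 2 ^ 10))))
    (Upto.trans (mid := 9216) ((Upto.of_pow relChk28_c8 (Nat.le_refl _)) : Upto _ _ 8192 (8192 + 2 ^ 10))
    (Upto.trans (mid := 10240) ((Upto.of_pow relChk28_c9 (Nat.le_refl _)) : Upto _ _ 9216 (9216 + 2 ^ 10))
    ((Upto.of_pow relChk28_c10 (Nat.le_refl _)) : Upto _ _ 10240 (10240 + 2 ^ 10))))))
    (Upto.trans (mid := 17408) (Upto.trans (mid := 14336) (Upto.trans (mid := 12288) ((Upto.of_pow relChk28_c11 (Nat.le_refl _)) : Upto _ _ 11264 (11264 + 2 ^ 10))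
    (Upto.trans (mid := 13312) ((Upto.of_pow relChk28_c12 (Nat.le_refl _)) : Upto _ _ 12288 (12288 + 2 ^ 10))
    ((Upto.of_pow relChk28_c13 (Nat.le_refl _)) : Upto _ _ 13312 (13312 + 2 ^ 10))))
    (Upto.trans (mid := 15360) ((Upto.of_pow relChk28_c14 (Nat.le_refl _)) : Upto _ _ 14336 (14336 + 2 ^ 10))
    (Upto.trans (mid := 16384) ((Upto.of_pow relChk28_c15 (Nat.le_refl _)) : Upto _ _ 15360 (15360 + 2 ^ 10))
    ((Upto.of_pow relChk28_c16 (Nat.le_refl _)) : Upto _ _ 16384 (16384 + 2 ^ 10)))))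
    (Upto.trans (mid := 20480) (Upto.trans (mid := 18432) ((Upto.of_pow relChk28_c17 (Nat.le_refl _)) : Upto _ _ 17408 (17408 + 2 ^ 10))
    (Upto.trans (mid := 19456) ((Upto.of_pow relChk28_c18 (Nat.le_refl _)) : Upto _ _ 18432 (18432 + 2 ^ 10))
    ((Upto.of_pow relChk28_c19 (Nat.le_refl _)) : Upto _ _ 19456 (19456 + 2 ^ 10))))
    (Upto.trans (mid := 21504) ((Upto.of_pow relChk28_c20 (Nat.le_refl _)) : Upto _ _ 20480 (20480 + 2 ^ 10))
    (Upto.trans (mid := 22528) ((Upto.of_pow relChk28_c21 (Nat.le_refl _)) : Upto _ _ 21504 (21504 + 2 ^ 10))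
    ((Upto.of_pow relChk28_c22 (Nat.le_refl _)) : Upto _ _ 22528 (22528 + 2 ^ 10)))))))
    (by decide) (by decide)

theorem rel28 : ∀ u, u < 22880 → trace (wordTabs tabs [(.a, true), (.d, false), (.c, false), (.d, false), (.c, false), (.d, false), (.c, false), (.d, false), (.c, false)]) u = u :=
  trace_of_fixStep (ts := [T3, T4, T3, T4, T3, T4, T3, T4, T1]) relChk28

theorem relChk29_c0 : allPow 22880 (fixStep [T6, T7, T6, T7, T1]) 11 0 = true := by decide +kernel
theorem relChk29_c1 : allPow 22880 (fixStep [T6, T7, T6, T7, T1]) 11 2048 = true := by decide +kernel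
theorem relChk29_c2 : allPow 22880 (fixStep [T6, T7, T6, T7, T1]) 11 4096 = true := by decide +kernel
theorem relChk29_c3 : allPow 22880 (fixStep [T6, T7, T6, T7, T1]) 11 6144 = true := by decide +kernel
theorem relChk29_c4 : allPow 22880 (fixStep [T6, T7, T6, T7, T1]) 11 8192 = true := by decide +kernel
theorem relChk29_c5 : allPow 22880 (fixStep [T6, T7, T6, T7, T1]) 11 10240 = true := by decide +kernel
theorem relChk29_c6 : allPow 22880 (fixStep [T6, T7, T6, T7, T1]) 11 12288 = true := by decide +kernel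
theorem relChk29_c7 : allPow 22880 (fixStep [T6, T7, T6, T7, T1]) 11 14336 = true := by decide +kernel
theorem relChk29_c8 : allPow 22880 (fixStep [T6, T7, T6, T7, T1]) 11 16384 = true := by decide +kernel
theorem relChk29_c9 : allPow 22880 (fixStep [T6, T7, T6, T7, T1]) 11 18432 = true := by decide +kernel
theorem relChk29_c10 : allPow 22880 (fixStep [T6, T7, T6, T7, T1]) 11 20480 = true := by decide +kernel
theorem relChk29_c11 : allPow 22880 (fixStep [T6, T7, T6, T7, T1]) 11 22528 = true := by decide +kernel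
theorem relChk29 : allBelow 15 22880 (fixStep [T6, T7, T6, T7, T1]) = true :=
  allBelow_of_upto (hi := 24576)
    (Upto.trans (mid := 12288) (Upto.trans (mid := 6144) (Upto.trans (mid := 2048) ((Upto.of_pow relChk29_c0 (Nat.le_refl _)) : Upto _ _ 0 (0 + 2 ^ 11))
    (Upto.trans (mid := 4096) ((Upto.of_pow relChk29_c1 (Nat.le_refl _)) : Upto _ _ 2048 (2048 + 2 ^ 11))
    ((Upto.of_pow relChk29_c2 (Nat.le_refl _)) : Upto _ _ 4096 (4096 + 2 ^ 11))))
    (Upto.trans (mid := 8192) ((Upto.of_pow relChk29_c3 (Nat.le_refl _)) : Upto _ _ 6144 (6144 + 2 ^ 11))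
    (Upto.trans (mid := 10240) ((Upto.of_pow relChk29_c4 (Nat.le_refl _)) : Upto _ _ 8192 (8192 + 2 ^ 11))
    ((Upto.of_pow relChk29_c5 (Nat.le_refl _)) : Upto _ _ 10240 (10240 + 2 ^ 11)))))
    (Upto.trans (mid := 18432) (Upto.trans (mid := 14336) ((Upto.of_pow relChk29_c6 (Nat.le_refl _)) : Upto _ _ 12288 (12288 + 2 ^ 11))
    (Upto.trans (mid := 16384) ((Upto.of_pow relChk29_c7 (Nat.le_refl _)) : Upto _ _ 14336 (14336 + 2 ^ 11))
    ((Upto.of_pow relChk29_c8 (Nat.le_refl _)) : Upto _ _ 16384 (16384 + 2 ^ 11))))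
    (Upto.trans (mid := 20480) ((Upto.of_pow relChk29_c9 (Nat.le_refl _)) : Upto _ _ 18432 (18432 + 2 ^ 11))
    (Upto.trans (mid := 22528) ((Upto.of_pow relChk29_c10 (Nat.le_refl _)) : Upto _ _ 20480 (20480 + 2 ^ 11))
    ((Upto.of_pow relChk29_c11 (Nat.le_refl _)) : Upto _ _ 22528 (22528 + 2 ^ 11))))))
    (by decide) (by decide)

theorem rel29 : ∀ u, u < 22880 → trace (wordTabs tabs [(.a, true), (.g, false), (.f, false), (.g, false), (.f, false)]) u = u :=
  trace_of_fixStep (ts := [T6, T7, T6, T7, T1]) relChk29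

end CfsgLib.SporRecognition.Cert.Suz22880
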