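import Cfsg.Agent.Lib.SporRecognition.Cert.Suz22880.PermBase

/-! Generated coset-enumeration certificate: Suz over <a, b, c, d, f, g>, 22880 cosets. -/

set_option autoImplicit false
set_option maxRecDepth 20000
set_option linter.all false
set_option Elab.async false

namespace CfsgLib.SporRecognition.Cert.Suz22880

open CfsgLib.SporRecognition.CosetCert

theorem relChk31_c0 : allPow 22880 (fixStep [T7, T6, T2, T7, T6, T2, T7, T6, T2, T7, T6, T2, T7, T6, T2]) 9 0 = true := by decide +kernel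
theorem relChk31_c1 : allPow 22880 (fixStep [T7, T6, T2, T7, T6, T2, T7, T6, T2, T7, T6, T2, T7, T6, T2]) 9 512 = true := by decide +kernel
theorem relChk31_c2 : allPow 22880 (fixStep [T7, T6, T2, T7, T6, T2, T7, T6, T2, T7, T6, T2, T7, T6, T2]) 9 1024 = true := by decide +kernel
theorem relChk31_c3 : allPow 22880 (fixStep [T7, T6, T2, T7, T6, T2, T7, T6, T2, T7, T6, T2, T7, T6, T2]) 9 1536 = true := by decide +kernel
theorem relChk31_c4 : allPow 22880 (fixStep [T7, T6, T2, T7, T6, T2, T7, T6, T2, T7, T6, T2, T7, T6, T2]) 9 2048 = true := by decide +kernel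
theorem relChk31_c5 : allPow 22880 (fixStep [T7, T6, T2, T7, T6, T2, T7, T6, T2, T7, T6, T2, T7, T6, T2]) 9 2560 = true := by decide +kernel
theorem relChk31_c6 : allPow 22880 (fixStep [T7, T6, T2, T7, T6, T2, T7, T6, T2, T7, T6, T2, T7, T6, T2]) 9 3072 = true := by decide +kernel
theorem relChk31_c7 : allPow 22880 (fixStep [T7, T6, T2, T7, T6, T2, T7, T6, T2, T7, T6, T2, T7, T6, T2]) 9 3584 = true := by decide +kernel
theorem relChk31_c8 : allPow 22880 (fixStep [T7, T6, T2, T7, T6, T2, T7, T6, T2, T7, T6, T2, T7, T6, T2]) 9 4096 = true := by decide +kernel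
theorem relChk31_c9 : allPow 22880 (fixStep [T7, T6, T2, T7, T6, T2, T7, T6, T2, T7, T6, T2, T7, T6, T2]) 9 4608 = true := by decide +kernel
theorem relChk31_c10 : allPow 22880 (fixStep [T7, T6, T2, T7, T6, T2, T7, T6, T2, T7, T6, T2, T7, T6, T2]) 9 5120 = true := by decide +kernel
theorem relChk31_c11 : allPow 22880 (fixStep [T7, T6, T2, T7, T6, T2, T7, T6, T2, T7, T6, T2, T7, T6, T2]) 9 5632 = true := by decide +kernel
theorem relChk31_c12 : allPow 22880 (fixStep [T7, T6, T2, T7, T6, T2, T7, T6, T2, T7, T6, T2, T7, T6, T2]) 9 6144 = true := by decide +kernel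
theorem relChk31_c13 : allPow 22880 (fixStep [T7, T6, T2, T7, T6, T2, T7, T6, T2, T7, T6, T2, T7, T6, T2]) 9 6656 = true := by decide +kernel
theorem relChk31_c14 : allPow 22880 (fixStep [T7, T6, T2, T7, T6, T2, T7, T6, T2, T7, T6, T2, T7, T6, T2]) 9 7168 = true := by decide +kernel
theorem relChk31_c15 : allPow 22880 (fixStep [T7, T6, T2, T7, T6, T2, T7, T6, T2, T7, T6, T2, T7, T6, T2]) 9 7680 = true := by decide +kernel
theorem relChk31_c16 : allPow 22880 (fixStep [T7, T6, T2, T7, T6, T2, T7, T6, T2, T7, T6, T2, T7, T6, T2]) 9 8192 = true := by decide +kernel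
theorem relChk31_c17 : allPow 22880 (fixStep [T7, T6, T2, T7, T6, T2, T7, T6, T2, T7, T6, T2, T7, T6, T2]) 9 8704 = true := by decide +kernel
theorem relChk31_c18 : allPow 22880 (fixStep [T7, T6, T2, T7, T6, T2, T7, T6, T2, T7, T6, T2, T7, T6, T2]) 9 9216 = true := by decide +kernel
theorem relChk31_c19 : allPow 22880 (fixStep [T7, T6, T2, T7, T6, T2, T7, T6, T2, T7, T6, T2, T7, T6, T2]) 9 9728 = true := by decide +kernel
theorem relChk31_c20 : allPow 22880 (fixStep [T7, T6, T2, T7, T6, T2, T7, T6, T2, T7, T6, T2, T7, T6, T2]) 9 10240 = true := by decide +kernel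
theorem relChk31_c21 : allPow 22880 (fixStep [T7, T6, T2, T7, T6, T2, T7, T6, T2, T7, T6, T2, T7, T6, T2]) 9 10752 = true := by decide +kernel
theorem relChk31_c22 : allPow 22880 (fixStep [T7, T6, T2, T7, T6, T2, T7, T6, T2, T7, T6, T2, T7, T6, T2]) 9 11264 = true := by decide +kernel
theorem relChk31_c23 : allPow 22880 (fixStep [T7, T6, T2, T7, T6, T2, T7, T6, T2, T7, T6, T2, T7, T6, T2]) 9 11776 = true := by decide +kernel
theorem relChk31_c24 : allPow 22880 (fixStep [T7, T6, T2, T7, T6, T2, T7, T6, T2, T7, T6, T2, T7, T6, T2]) 9 12288 = true := by decide +kernel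
theorem relChk31_c25 : allPow 22880 (fixStep [T7, T6, T2, T7, T6, T2, T7, T6, T2, T7, T6, T2, T7, T6, T2]) 9 12800 = true := by decide +kernel
theorem relChk31_c26 : allPow 22880 (fixStep [T7, T6, T2, T7, T6, T2, T7, T6, T2, T7, T6, T2, T7, T6, T2]) 9 13312 = true := by decide +kernel
theorem relChk31_c27 : allPow 22880 (fixStep [T7, T6, T2, T7, T6, T2, T7, T6, T2, T7, T6, T2, T7, T6, T2]) 9 13824 = true := by decide +kernel
theorem relChk31_c28 : allPow 22880 (fixStep [T7, T6, T2, T7, T6, T2, T7, T6, T2, T7, T6, T2, T7, T6, T2]) 9 14336 = true := by decide +kernel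
theorem relChk31_c29 : allPow 22880 (fixStep [T7, T6, T2, T7, T6, T2, T7, T6, T2, T7, T6, T2, T7, T6, T2]) 9 14848 = true := by decide +kernel
theorem relChk31_c30 : allPow 22880 (fixStep [T7, T6, T2, T7, T6, T2, T7, T6, T2, T7, T6, T2, T7, T6, T2]) 9 15360 = true := by decide +kernel
theorem relChk31_c31 : allPow 22880 (fixStep [T7, T6, T2, T7, T6, T2, T7, T6, T2, T7, T6, T2, T7, T6, T2]) 9 15872 = true := by decide +kernel
theorem relChk31_c32 : allPow 22880 (fixStep [T7, T6, T2, T7, T6, T2, T7, T6, T2, T7, T6, T2, T7, T6, T2]) 9 16384 = true := by decide +kernel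
theorem relChk31_c33 : allPow 22880 (fixStep [T7, T6, T2, T7, T6, T2, T7, T6, T2, T7, T6, T2, T7, T6, T2]) 9 16896 = true := by decide +kernel
theorem relChk31_c34 : allPow 22880 (fixStep [T7, T6, T2, T7, T6, T2, T7, T6, T2, T7, T6, T2, T7, T6, T2]) 9 17408 = true := by decide +kernel
theorem relChk31_c35 : allPow 22880 (fixStep [T7, T6, T2, T7, T6, T2, T7, T6, T2, T7, T6, T2, T7, T6, T2]) 9 17920 = true := by decide +kernel
theorem relChk31_c36 : allPow 22880 (fixStep [T7, T6, T2, T7, T6, T2, T7, T6, T2, T7, T6, T2, T7, T6, T2]) 9 18432 = true := by decide +kernel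
theorem relChk31_c37 : allPow 22880 (fixStep [T7, T6, T2, T7, T6, T2, T7, T6, T2, T7, T6, T2, T7, T6, T2]) 9 18944 = true := by decide +kernel
theorem relChk31_c38 : allPow 22880 (fixStep [T7, T6, T2, T7, T6, T2, T7, T6, T2, T7, T6, T2, T7, T6, T2]) 9 19456 = true := by decide +kernel
theorem relChk31_c39 : allPow 22880 (fixStep [T7, T6, T2, T7, T6, T2, T7, T6, T2, T7, T6, T2, T7, T6, T2]) 9 19968 = true := by decide +kernel
theorem relChk31_c40 : allPow 22880 (fixStep [T7, T6, T2, T7, T6, T2, T7, T6, T2, T7, T6, T2, T7, T6, T2]) 9 20480 = true := by decide +kernel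
theorem relChk31_c41 : allPow 22880 (fixStep [T7, T6, T2, T7, T6, T2, T7, T6, T2, T7, T6, T2, T7, T6, T2]) 9 20992 = true := by decide +kernel
theorem relChk31_c42 : allPow 22880 (fixStep [T7, T6, T2, T7, T6, T2, T7, T6, T2, T7, T6, T2, T7, T6, T2]) 9 21504 = true := by decide +kernel
theorem relChk31_c43 : allPow 22880 (fixStep [T7, T6, T2, T7, T6, T2, T7, T6, T2, T7, T6, T2, T7, T6, T2]) 9 22016 = true := by decide +kernel
theorem relChk31_c44 : allPow 22880 (fixStep [T7, T6, T2, T7, T6, T2, T7, T6, T2, T7, T6, T2, T7, T6, T2]) 9 22528 = true := by decide +kernel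
theorem relChk31 : allBelow 15 22880 (fixStep [T7, T6, T2, T7, T6, T2, T7, T6, T2, T7, T6, T2, T7, T6, T2]) = true :=
  allBelow_of_upto (hi := 23040)
    (Upto.trans (mid := 11264) (Upto.trans (mid := 5632) (Upto.trans (mid := 2560) (Upto.trans (mid := 1024) (Upto.trans (mid := 512) ((Upto.of_pow relChk31_c0 (Nat.le_refl _)) : Upto _ _ 0 (0 + 2 ^ 9))
    ((Upto.of_pow relChk31_c1 (Nat.le_refl _)) : Upto _ _ 512 (512 + 2 ^ 9)))
    (Upto.trans (mid := 1536) ((Upto.of_pow relChk31_c2 (Nat.le_refl _)) : Upto _ _ 1024 (1024 + 2 ^ 9))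
    (Upto.trans (mid := 2048) ((Upto.of_pow relChk31_c3 (Nat.le_refl _)) : Upto _ _ 1536 (1536 + 2 ^ 9))
    ((Upto.of_pow relChk31_c4 (Nat.le_refl _)) : Upto _ _ 2048 (2048 + 2 ^ 9)))))
    (Upto.trans (mid := 4096) (Upto.trans (mid := 3072) ((Upto.of_pow relChk31_c5 (Nat.le_refl _)) : Upto _ _ 2560 (2560 + 2 ^ 9))
    (Upto.trans (mid := 3584) ((Upto.of_pow relChk31_c6 (Nat.le_refl _)) : Upto _ _ 3072 (3072 + 2 ^ 9))
    ((Upto.of_pow relChk31_c7 (Nat.le_refl _)) : Upto _ _ 3584 (3584 + 2 ^ 9))))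
    (Upto.trans (mid := 4608) ((Upto.of_pow relChk31_c8 (Nat.le_refl _)) : Upto _ _ 4096 (4096 + 2 ^ 9))
    (Upto.trans (mid := 5120) ((Upto.of_pow relChk31_c9 (Nat.le_refl _)) : Upto _ _ 4608 (4608 + 2 ^ 9))
    ((Upto.of_pow relChk31_c10 (Nat.le_refl _)) : Upto _ _ 5120 (5120 + 2 ^ 9))))))
    (Upto.trans (mid := 8192) (Upto.trans (mid := 6656) (Upto.trans (mid := 6144) ((Upto.of_pow relChk31_c11 (Nat.le_refl _)) : Upto _ _ 5632 (5632 + 2 ^ 9))
    ((Upto.of_pow relChk31_c12 (Nat.le_refl _)) : Upto _ _ 6144 (6144 + 2 ^ 9)))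
    (Upto.trans (mid := 7168) ((Upto.of_pow relChk31_c13 (Nat.le_refl _)) : Upto _ _ 6656 (6656 + 2 ^ 9))
    (Upto.trans (mid := 7680) ((Upto.of_pow relChk31_c14 (Nat.le_refl _)) : Upto _ _ 7168 (7168 + 2 ^ 9))
    ((Upto.of_pow relChk31_c15 (Nat.le_refl _)) : Upto _ _ 7680 (7680 + 2 ^ 9)))))
    (Upto.trans (mid := 9728) (Upto.trans (mid := 8704) ((Upto.of_pow relChk31_c16 (Nat.le_refl _)) : Upto _ _ 8192 (8192 + 2 ^ 9))
    (Upto.trans (mid := 9216) ((Upto.of_pow relChk31_c17 (Nat.le_refl _)) : Upto _ _ 8704 (8704 + 2 ^ 9))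
    ((Upto.of_pow relChk31_c18 (Nat.le_refl _)) : Upto _ _ 9216 (9216 + 2 ^ 9))))
    (Upto.trans (mid := 10240) ((Upto.of_pow relChk31_c19 (Nat.le_refl _)) : Upto _ _ 9728 (9728 + 2 ^ 9))
    (Upto.trans (mid := 10752) ((Upto.of_pow relChk31_c20 (Nat.le_refl _)) : Upto _ _ 10240 (10240 + 2 ^ 9))
    ((Upto.of_pow relChk31_c21 (Nat.le_refl _)) : Upto _ _ 10752 (10752 + 2 ^ 9)))))))
    (Upto.trans (mid := 16896) (Upto.trans (mid := 13824) (Upto.trans (mid := 12288) (Upto.trans (mid := 11776) ((Upto.of_pow relChk31_c22 (Nat.le_refl _)) : Upto _ _ 11264 (11264 + 2 ^ 9))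
    ((Upto.of_pow relChk31_c23 (Nat.le_refl _)) : Upto _ _ 11776 (11776 + 2 ^ 9)))
    (Upto.trans (mid := 12800) ((Upto.of_pow relChk31_c24 (Nat.le_refl _)) : Upto _ _ 12288 (12288 + 2 ^ 9))
    (Upto.trans (mid := 13312) ((Upto.of_pow relChk31_c25 (Nat.le_refl _)) : Upto _ _ 12800 (12800 + 2 ^ 9))
    ((Upto.of_pow relChk31_c26 (Nat.le_refl _)) : Upto _ _ 13312 (13312 + 2 ^ 9)))))
    (Upto.trans (mid := 15360) (Upto.trans (mid := 14336) ((Upto.of_pow relChk31_c27 (Nat.le_refl _)) : Upto _ _ 13824 (13824 + 2 ^ 9))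
    (Upto.trans (mid := 14848) ((Upto.of_pow relChk31_c28 (Nat.le_refl _)) : Upto _ _ 14336 (14336 + 2 ^ 9))
    ((Upto.of_pow relChk31_c29 (Nat.le_refl _)) : Upto _ _ 14848 (14848 + 2 ^ 9))))
    (Upto.trans (mid := 15872) ((Upto.of_pow relChk31_c30 (Nat.le_refl _)) : Upto _ _ 15360 (15360 + 2 ^ 9))
    (Upto.trans (mid := 16384) ((Upto.of_pow relChk31_c31 (Nat.le_refl _)) : Upto _ _ 15872 (15872 + 2 ^ 9))
    ((Upto.of_pow relChk31_c32 (Nat.le_refl _)) : Upto _ _ 16384 (16384 + 2 ^ 9))))))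
    (Upto.trans (mid := 19968) (Upto.trans (mid := 18432) (Upto.trans (mid := 17408) ((Upto.of_pow relChk31_c33 (Nat.le_refl _)) : Upto _ _ 16896 (16896 + 2 ^ 9))
    (Upto.trans (mid := 17920) ((Upto.of_pow relChk31_c34 (Nat.le_refl _)) : Upto _ _ 17408 (17408 + 2 ^ 9))
    ((Upto.of_pow relChk31_c35 (Nat.le_refl _)) : Upto _ _ 17920 (17920 + 2 ^ 9))))
    (Upto.trans (mid := 18944) ((Upto.of_pow relChk31_c36 (Nat.le_refl _)) : Upto _ _ 18432 (18432 + 2 ^ 9))
    (Upto.trans (mid := 19456) ((Upto.of_pow relChk31_c37 (Nat.le_refl _)) : Upto _ _ 18944 (18944 + 2 ^ 9))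
    ((Upto.of_pow relChk31_c38 (Nat.le_refl _)) : Upto _ _ 19456 (19456 + 2 ^ 9)))))
    (Upto.trans (mid := 21504) (Upto.trans (mid := 20480) ((Upto.of_pow relChk31_c39 (Nat.le_refl _)) : Upto _ _ 19968 (19968 + 2 ^ 9))
    (Upto.trans (mid := 20992) ((Upto.of_pow relChk31_c40 (Nat.le_refl _)) : Upto _ _ 20480 (20480 + 2 ^ 9))
    ((Upto.of_pow relChk31_c41 (Nat.le_refl _)) : Upto _ _ 20992 (20992 + 2 ^ 9))))
    (Upto.trans (mid := 22016) ((Upto.of_pow relChk31_c42 (Nat.le_refl _)) : Upto _ _ 21504 (21504 + 2 ^ 9))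
    (Upto.trans (mid := 22528) ((Upto.of_pow relChk31_c43 (Nat.le_refl _)) : Upto _ _ 22016 (22016 + 2 ^ 9))
    ((Upto.of_pow relChk31_c44 (Nat.le_refl _)) : Upto _ _ 22528 (22528 + 2 ^ 9))))))))
    (by decide) (by decide)

theorem rel31 : ∀ u, u < 22880 → trace (wordTabs tabs [(.b, true), (.f, true), (.g, true), (.b, true), (.f, true), (.g, true), (.b, true), (.f, true), (.g, true), (.b, true), (.f, true), (.g, true), (.b, true), (.f, true), (.g, true)]) u = u :=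
  trace_of_fixStep (ts := [T7, T6, T2, T7, T6, T2, T7, T6, T2, T7, T6, T2, T7, T6, T2]) relChk31

end CfsgLib.SporRecognition.Cert.Suz22880
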