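import Cfsg.Agent.Lib.SporRecognition.Cert.Suz22880.PermBase

/-! Generated coset-enumeration certificate: Suz over <a, b, c, d, f, g>, 22880 cosets. -/

set_option autoImplicit false
set_option maxRecDepth 20000
set_option linter.all false
set_option Elab.async false

namespace CfsgLib.SporRecognition.Cert.Suz22880

open CfsgLib.SporRecognition.CosetCert

theorem relChk12_c0 : allPow 22880 (fixStep [T7, T2, T7, T2, T7, T2]) 11 0 = true := by decide +kernel
theorem relChk12_c1 : allPow 22880 (fixStep [T7, T2, T7, T2, T7, T2]) 11 2048 = true := by decide +kernel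
theorem relChk12_c2 : allPow 22880 (fixStep [T7, T2, T7, T2, T7, T2]) 11 4096 = true := by decide +kernel
theorem relChk12_c3 : allPow 22880 (fixStep [T7, T2, T7, T2, T7, T2]) 11 6144 = true := by decide +kernel
theorem relChk12_c4 : allPow 22880 (fixStep [T7, T2, T7, T2, T7, T2]) 11 8192 = true := by decide +kernel
theorem relChk12_c5 : allPow 22880 (fixStep [T7, T2, T7, T2, T7, T2]) 11 10240 = true := by decide +kernel
theorem relChk12_c6 : allPow 22880 (fixStep [T7, T2, T7, T2, T7, T2]) 11 12288 = true := by decide +kernel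
theorem relChk12_c7 : allPow 22880 (fixStep [T7, T2, T7, T2, T7, T2]) 11 14336 = true := by decide +kernel
theorem relChk12_c8 : allPow 22880 (fixStep [T7, T2, T7, T2, T7, T2]) 11 16384 = true := by decide +kernel
theorem relChk12_c9 : allPow 22880 (fixStep [T7, T2, T7, T2, T7, T2]) 11 18432 = true := by decide +kernel
theorem relChk12_c10 : allPow 22880 (fixStep [T7, T2, T7, T2, T7, T2]) 11 20480 = true := by decide +kernel
theorem relChk12_c11 : allPow 22880 (fixStep [T7, T2, T7, T2, T7, T2]) 11 22528 = true := by decide +kernel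
theorem relChk12 : allBelow 15 22880 (fixStep [T7, T2, T7, T2, T7, T2]) = true :=
  allBelow_of_upto (hi := 24576)
    (Upto.trans (mid := 12288) (Upto.trans (mid := 6144) (Upto.trans (mid := 2048) ((Upto.of_pow relChk12_c0 (Nat.le_refl _)) : Upto _ _ 0 (0 + 2 ^ 11))
    (Upto.trans (mid := 4096) ((Upto.of_pow relChk12_c1 (Nat.le_refl _)) : Upto _ _ 2048 (2048 + 2 ^ 11))
    ((Upto.of_pow relChk12_c2 (Nat.le_refl _)) : Upto _ _ 4096 (4096 + 2 ^ 11))))
    (Upto.trans (mid := 8192) ((Upto.of_pow relChk12_c3 (Nat.le_refl _)) : Upto _ _ 6144 (6144 + 2 ^ 11))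
    (Upto.trans (mid := 10240) ((Upto.of_pow relChk12_c4 (Nat.le_refl _)) : Upto _ _ 8192 (8192 + 2 ^ 11))
    ((Upto.of_pow relChk12_c5 (Nat.le_refl _)) : Upto _ _ 10240 (10240 + 2 ^ 11)))))
    (Upto.trans (mid := 18432) (Upto.trans (mid := 14336) ((Upto.of_pow relChk12_c6 (Nat.le_refl _)) : Upto _ _ 12288 (12288 + 2 ^ 11))
    (Upto.trans (mid := 16384) ((Upto.of_pow relChk12_c7 (Nat.le_refl _)) : Upto _ _ 14336 (14336 + 2 ^ 11))
    ((Upto.of_pow relChk12_c8 (Nat.le_refl _)) : Upto _ _ 16384 (16384 + 2 ^ 11))))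
    (Upto.trans (mid := 20480) ((Upto.of_pow relChk12_c9 (Nat.le_refl _)) : Upto _ _ 18432 (18432 + 2 ^ 11))
    (Upto.trans (mid := 22528) ((Upto.of_pow relChk12_c10 (Nat.le_refl _)) : Upto _ _ 20480 (20480 + 2 ^ 11))
    ((Upto.of_pow relChk12_c11 (Nat.le_refl _)) : Upto _ _ 22528 (22528 + 2 ^ 11))))))
    (by decide) (by decide)

theorem rel12 : ∀ u, u < 22880 → trace (wordTabs tabs [(.b, true), (.g, true), (.b, true), (.g, true), (.b, true), (.g, true)]) u = u :=
  trace_of_fixStep (ts := [T7, T2, T7, T2, T7, T2]) relChk12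

theorem relChk13_c0 : allPow 22880 (fixStep [T3, T3]) 12 0 = true := by decide +kernel
theorem relChk13_c1 : allPow 22880 (fixStep [T3, T3]) 12 4096 = true := by decide +kernel
theorem relChk13_c2 : allPow 22880 (fixStep [T3, T3]) 12 8192 = true := by decide +kernel
theorem relChk13_c3 : allPow 22880 (fixStep [T3, T3]) 12 12288 = true := by decide +kernel
theorem relChk13_c4 : allPow 22880 (fixStep [T3, T3]) 12 16384 = true := by decide +kernel
theorem relChk13_c5 : allPow 22880 (fixStep [T3, T3]) 12 20480 = true := by decide +kernel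
theorem relChk13 : allBelow 15 22880 (fixStep [T3, T3]) = true :=
  allBelow_of_upto (hi := 24576)
    (Upto.trans (mid := 12288) (Upto.trans (mid := 4096) ((Upto.of_pow relChk13_c0 (Nat.le_refl _)) : Upto _ _ 0 (0 + 2 ^ 12))
    (Upto.trans (mid := 8192) ((Upto.of_pow relChk13_c1 (Nat.le_refl _)) : Upto _ _ 4096 (4096 + 2 ^ 12))
    ((Upto.of_pow relChk13_c2 (Nat.le_refl _)) : Upto _ _ 8192 (8192 + 2 ^ 12))))
    (Upto.trans (mid := 16384) ((Upto.of_pow relChk13_c3 (Nat.le_refl _)) : Upto _ _ 12288 (12288 + 2 ^ 12))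
    (Upto.trans (mid := 20480) ((Upto.of_pow relChk13_c4 (Nat.le_refl _)) : Upto _ _ 16384 (16384 + 2 ^ 12))
    ((Upto.of_pow relChk13_c5 (Nat.le_refl _)) : Upto _ _ 20480 (20480 + 2 ^ 12)))))
    (by decide) (by decide)

theorem rel13 : ∀ u, u < 22880 → trace (wordTabs tabs [(.c, true), (.c, true)]) u = u :=
  trace_of_fixStep (ts := [T3, T3]) relChk13

end CfsgLib.SporRecognition.Cert.Suz22880
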